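import Groth.Agent.InvX.Tensor
import Groth.Agent.RelPC17.DimOne
import Groth.Agent.RelPC17.FibTriv
import Groth.Agent.TFOneX.Basic

/-!
# Multiplication by the sections of a globally generated invertible module
-/

set_option autoImplicit false
set_option linter.style.haveILetI false
set_option linter.unusedSectionVars false
set_option linter.unusedVariables false
set_option backward.isDefEq.respectTransparency false
set_option backward.isDefEq.respectTransparency.types false
set_option maxHeartbeats 1000000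

universe u

open CategoryTheory CategoryTheory.Limits AlgebraicGeometry TopologicalSpace Opposite
open Groth.Agent.AModX (res)

noncomputable section

namespace Groth.Agent.GGMul

open Groth.Agent

variable {X : Scheme.{u}} {A : X.Modules}

/-- Multiplication by a global section. -/
def μ (M : X.Modules) (s : Γ(A, ⊤)) : M ⟶ CohB1.tensorMod M A :=
  ⟨PresheafOfModules.homMk
    { app := fun U => AddCommGrpCat.ofHom (AddMonoidHom.mk'
        (fun a : Γ(M, U.unop) => InvX.tmul a (res A (le_top : U.unop ≤ ⊤) s))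
        fun a b => (congrArg _ (KFlatLib.tm_add_left a b _)).trans (map_add _ _ _))
      naturality := fun U V i => by
        ext a
        refine Eq.trans ?_ (InvX.res_tmul i.unop.le a (res A (le_top : U.unop ≤ ⊤) s)).symm
        rw [AModX.res_res]
        rfl }
    fun U r a => InvX.tmul_smul_left r a _⟩

theorem μ_app {M : X.Modules} (s : Γ(A, ⊤)) {U : X.Opens} (a : Γ(M, U)) :
    (μ M s).app U a = InvX.tmul a (res A (le_top : U ≤ ⊤) s) := rfl

/-- The germ of a multiplication, in frames. -/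
theorem sm_μ {M : X.Modules} (s : Γ(A, ⊤)) {U : X.Opens} {z : X} (hz : z ∈ U) (u : Γ(M, U)) {e : Γ(A, U)}
    {f : Γ(X, U)} (hs : res A (le_top : U ≤ ⊤) s = f • e) (r : X.presheaf.stalk z) :
    TFOneX.sm (μ M s) z (r • M.presheaf.germ U z hz u) =
      (r * X.presheaf.germ U z hz f) • (CohB1.tensorMod M A).presheaf.germ U z hz (InvX.tmul u e) := by
  refine ((TFOneX.sm (μ M s) z).map_smul _ _).trans ?_
  rw [mul_smul]
  refine congrArg (r • ·) ?_
  refine (DerSch.stalkFunctor_map_germ z (μ M s) U hz u).trans ?_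
  rw [μ_app, hs, InvX.tmul_smul_right]
  exact QCoh.germ_smul' _ hz _ _

variable {ι : Type u} (s : ι → Γ(A, ⊤))

/-- The multiplication map. -/
def φ (M : X.Modules) : (∐ fun _ : ι => M) ⟶ CohB1.tensorMod M A := Sigma.desc fun i => μ M (s i)

/-- The Koszul map. -/
def ψ (N : X.Modules) : (∐ fun _ : ι × ι => N) ⟶ ∐ fun _ : ι => CohB1.tensorMod N A :=
  Sigma.desc fun p => μ N (s p.2) ≫ Sigma.ι (fun _ : ι => CohB1.tensorMod N A) p.1 -
    μ N (s p.1) ≫ Sigma.ι (fun _ : ι => CohB1.tensorMod N A) p.2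

theorem sm_ι_φ {M : X.Modules} (i : ι) (z : X) (c : (DerSch.stalkFunctor X z).obj M) :
    TFOneX.sm (φ s M) z (TFOneX.sm (Sigma.ι (fun _ : ι => M) i) z c) = TFOneX.sm (μ M (s i)) z c := by
  rw [← TFOneX.sm_comp, φ, Sigma.ι_desc]

/-- Elements of the stalk of a coproduct are finite sums. -/
theorem exists_stalk_sum (T : ι → X.Modules) (z : X) (c : (DerSch.stalkFunctor X z).obj (∐ T)) :
    ∃ (t : Finset ι) (d : ∀ i, (DerSch.stalkFunctor X z).obj (T i)),
      c = ∑ i ∈ t, TFOneX.sm (Sigma.ι T i) z (d i) := by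
  classical
  let S : Submodule (X.presheaf.stalk z) ((DerSch.stalkFunctor X z).obj (∐ T)) :=
    ⨆ i, LinearMap.range (TFOneX.sm (Sigma.ι T i) z)
  let q : (DerSch.stalkFunctor X z).obj (∐ T) ⟶ ModuleCat.of _ (_ ⧸ S) := ModuleCat.ofHom S.mkQ
  have hq : q = 0 := (isColimitOfPreserves (DerSch.stalkFunctor X z) (coproductIsCoproduct T)).hom_ext
    fun ⟨i⟩ => by
      ext a
      exact (Submodule.Quotient.mk_eq_zero S).2 (Submodule.mem_iSup_of_mem i ⟨a, rfl⟩)
  have hc : c ∈ S := (Submodule.Quotient.mk_eq_zero S).1 congr($hq c)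
  obtain ⟨g, hg, hsum⟩ := (Submodule.mem_iSup_iff_exists_finsupp _ _).1 hc
  choose d hd using hg
  exact ⟨g.support, d, hsum.symm.trans (Finset.sum_congr rfl fun i _ => (hd i).symm)⟩

variable (hA : PicF.IsInvertible A) (hgen : ∀ x : X, ∃ i, x ∈ H23.TrivBasic.locus (s i))

include hgen in
/-- Some section is a frame near the point. -/
theorem exists_local {M : X.Modules} (hM : PicF.IsInvertible M) (x : X) :
    ∃ (l : ι) (U : X.Opens) (hx : x ∈ U) (u : Γ(M, U)), InvX.IsFrame u ∧
      InvX.IsFrame (res A (le_top : U ≤ ⊤) (s l)) := by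
  obtain ⟨l, hl⟩ := hgen x
  obtain ⟨V, hxV, u, hu⟩ := InvX.exists_frame hM x
  exact ⟨l, V ⊓ H23.TrivBasic.locus (s l), ⟨hxV, hl⟩, _, hu.res inf_le_left,
    H23.TrivBasic.isFrame_res_of_le_locus inf_le_right⟩

include hA hgen in
theorem epi_φ {M : X.Modules} (hM : PicF.IsInvertible M) : Epi (φ s M) := by
  let S := ShortComplex.mk (φ s M) (0 : CohB1.tensorMod M A ⟶ CohB1.tensorMod M A) comp_zero
  refine (ShortComplex.exact_iff_epi S rfl).1 ((KFlatLib.exact_iff_stalk S).2 fun x => ?_)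
  haveI : Epi (S.map (DerSch.stalkFunctor X x)).f := (ModuleCat.epi_iff_surjective _).2 fun b => by
    obtain ⟨l, U, hx, u, hu, hl⟩ := exists_local s hgen hM x
    obtain ⟨r, hr⟩ := ((InvX.isFrame_tmul hu hl).germ_bijective hx).2 b
    refine ⟨TFOneX.sm (Sigma.ι (fun _ : ι => M) l) x (r • M.presheaf.germ U x hx u), ?_⟩
    refine (sm_ι_φ s l x _).trans ?_
    rw [sm_μ (s l) hx u (f := 1) (e := res A (le_top : U ≤ ⊤) (s l)) (one_smul _ _).symm, map_one, mul_one]
    exact hr
  exact (ShortComplex.exact_iff_epi _ (show (DerSch.stalkFunctor X x).map (0 : CohB1.tensorMod M A ⟶ _) = 0 from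
    Functor.map_zero _ _ _)).2 inferInstance

variable {N : X.Modules} (hN : PicF.IsInvertible N)

include hA hgen hN in
theorem ψ_φ : ψ s N ≫ φ s (CohB1.tensorMod N A) = 0 := by
  refine Sigma.hom_ext _ _ fun p => ?_
  rw [comp_zero, ψ, Sigma.ι_desc_assoc, Preadditive.sub_comp, Category.assoc, Category.assoc, φ, Sigma.ι_desc,
    Sigma.ι_desc]
  refine sub_eq_zero.2 (Scheme.Modules.hom_ext _ _ fun W => ?_)
  ext a
  refine TopCat.Presheaf.section_ext ⟨(CohB1.tensorMod (CohB1.tensorMod N A) A).presheaf,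
    (CohB1.tensorMod (CohB1.tensorMod N A) A).isSheaf⟩ W _ _ fun z hz => ?_
  obtain ⟨l, U, hzU, u, hu, hl⟩ := exists_local s hgen hN z
  obtain ⟨r, hr⟩ := (hu.germ_bijective hzU).2 (N.presheaf.germ W z hz a)
  obtain ⟨f₁, hf₁⟩ := hl.exists_coord le_rfl (res A (le_top : U ≤ ⊤) (s p.1))
  obtain ⟨f₂, hf₂⟩ := hl.exists_coord le_rfl (res A (le_top : U ≤ ⊤) (s p.2))
  rw [AModX.res_self] at hf₁ hf₂
  have key : ∀ (i j : ι) (fi fj : Γ(X, U)), res A (le_top : U ≤ ⊤) (s i) = fi • res A (le_top : U ≤ ⊤) (s l) →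
      res A (le_top : U ≤ ⊤) (s j) = fj • res A (le_top : U ≤ ⊤) (s l) →
      TFOneX.sm (μ N (s i) ≫ μ (CohB1.tensorMod N A) (s j)) z (N.presheaf.germ W z hz a) =
        (r * X.presheaf.germ U z hzU fi * X.presheaf.germ U z hzU fj) •
          (CohB1.tensorMod (CohB1.tensorMod N A) A).presheaf.germ U z hzU
            (InvX.tmul (InvX.tmul u (res A (le_top : U ≤ ⊤) (s l))) (res A (le_top : U ≤ ⊤) (s l))) := by
    intro i j fi fj hi hj
    rw [TFOneX.sm_comp, ← show r • N.presheaf.germ U z hzU u = N.presheaf.germ W z hz a from hr,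
      sm_μ (s i) hzU u hi, sm_μ (s j) hzU _ hj]
  have h1 := key p.2 p.1 f₂ f₁ hf₂ hf₁
  have h2 := key p.1 p.2 f₁ f₂ hf₁ hf₂
  rw [mul_right_comm] at h2
  exact ((DerSch.stalkFunctor_map_germ z _ W hz a).symm.trans (h1.trans h2.symm)).trans
    (DerSch.stalkFunctor_map_germ z _ W hz a)

include hA hgen hN in
/-- The Koszul map covers the relations. -/
theorem epi_lift : Epi (kernel.lift (φ s (CohB1.tensorMod N A)) (ψ s N) (ψ_φ s hA hgen hN)) := by
  classical
  let M := CohB1.tensorMod N A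
  refine (ShortComplex.exact_iff_epi_kernel_lift (ShortComplex.mk (ψ s N) (φ s M) (ψ_φ s hA hgen hN))).1
    ((KFlatLib.exact_iff_stalk _).2 fun x => (ShortComplex.moduleCat_exact_iff _).2 fun c hc => ?_)
  obtain ⟨l, U, hx, u, hu, hl⟩ := exists_local s hgen hN x
  let e := res A (le_top : U ≤ ⊤) (s l)
  have hue := InvX.isFrame_tmul hu hl
  obtain ⟨t, d, hd⟩ := exists_stalk_sum (fun _ : ι => M) x c
  choose r hr using fun i => (hue.germ_bijective hx).2 (d i)
  have hf' : ∀ i, ∃ f : Γ(X, U), res A (le_top : U ≤ ⊤) (s i) = f • e := fun i => by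
    obtain ⟨f, hf⟩ := hl.exists_coord le_rfl (res A (le_top : U ≤ ⊤) (s i))
    exact ⟨f, by rw [AModX.res_self] at hf; exact hf⟩
  choose f hf using hf'
  let g := fun i => X.presheaf.germ U x hx (f i)
  have hgl : g l = 1 := by
    have := hl.coord_unique le_rfl (r := f l) (r' := 1) (by rw [AModX.res_self, one_smul]; exact (hf l).symm)
    simp only [g, this, map_one]
  have hd' : ∀ i, d i = r i • M.presheaf.germ U x hx (InvX.tmul u e) := fun i => (hr i).symm
  have hsum : ∑ i ∈ t, r i * g i = 0 := by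
    have hinj := ((InvX.isFrame_tmul hue hl).germ_bijective hx).1
    refine hinj ?_
    show (∑ i ∈ t, r i * g i) • _ = (0 : X.presheaf.stalk x) • _
    rw [zero_smul, Finset.sum_smul]
    calc ∑ i ∈ t, (r i * g i) • (CohB1.tensorMod M A).presheaf.germ U x hx (InvX.tmul (InvX.tmul u e) e)
        = ∑ i ∈ t, TFOneX.sm (φ s M) x (TFOneX.sm (Sigma.ι (fun _ : ι => M) i) x (d i)) :=
          Finset.sum_congr rfl fun i _ => by
            rw [sm_ι_φ s i x (d i), hd' i, sm_μ (s i) hx (InvX.tmul u e) (hf i)]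
      _ = TFOneX.sm (φ s M) x c := by rw [hd, map_sum]
      _ = 0 := hc
  refine ⟨∑ i ∈ t, TFOneX.sm (Sigma.ι (fun _ : ι × ι => N) (i, l)) x (r i • N.presheaf.germ U x hx u), ?_⟩
  show TFOneX.sm (ψ s N) x _ = c
  rw [map_sum, hd]
  have hterm : ∀ i, TFOneX.sm (ψ s N) x (TFOneX.sm (Sigma.ι (fun _ : ι × ι => N) (i, l)) x
      (r i • N.presheaf.germ U x hx u)) = TFOneX.sm (Sigma.ι (fun _ : ι => M) i) x (d i) -
        (r i * g i) • TFOneX.sm (Sigma.ι (fun _ : ι => M) l) x (M.presheaf.germ U x hx (InvX.tmul u e)) := by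
    intro i
    rw [← TFOneX.sm_comp, ψ, Sigma.ι_desc, TFOneX.sm_sub, TFOneX.sm_comp, TFOneX.sm_comp,
      sm_μ (s l) hx u (hf l), sm_μ (s i) hx u (hf i), show X.presheaf.germ U x hx (f l) = 1 from hgl, mul_one,
      ← hd', LinearMap.map_smul]
  rw [Finset.sum_congr rfl fun i _ => hterm i, Finset.sum_sub_distrib, ← Finset.sum_smul, hsum, zero_smul,
    sub_zero]

end Groth.Agent.GGMul
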