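import Groth.Agent.GGMul.Basic
import Groth.Agent.Lib.GenLocusGG
import Groth.Agent.NefH1.Field
import Groth.Prelude.Def_SecTwist

/-!
# Sections of `A^{n+1}` are spanned by products
-/

set_option autoImplicit false
set_option linter.style.haveILetI false
set_option linter.unusedSectionVars false
set_option backward.isDefEq.respectTransparency false
set_option backward.isDefEq.respectTransparency.types false
set_option maxHeartbeats 1000000

universe u

open CategoryTheory CategoryTheory.Limits AlgebraicGeometry TopologicalSpace Opposite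

noncomputable section

namespace Groth.Agent.GGMul

open Groth.Agent RelPC17

variable {k : Type u} [Field k] {X : Scheme.{u}} [X.Over (Spec (CommRingCat.of k))]
  [IsProper (X ↘ Spec (CommRingCat.of k))] (hdim : topologicalKrullDim X ≤ 1)
  {A : X.Modules} (hA : PicF.IsInvertible A) (hgg : Curv2.IsGloballyGenerated A)

include k hdim hA hgg in
theorem step {N : X.Modules} (hN : PicF.IsInvertible N) (h : Subsingleton (Coh.HH X N 1)) :
    Subsingleton (Coh.HH X (CohB1.tensorMod N A) 1) := by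
  let f := X ↘ Spec (CommRingCat.of k)
  haveI := CurveCohLib.isNoetherian_of_proper (k := k) (X := X)
  let s : Γ(A, ⊤) → Γ(A, ⊤) := id
  have hgen : ∀ x : X, ∃ i, x ∈ H23.TrivBasic.locus (s i) := GenLocusGG.exists_mem_locus hA hgg
  have hNq := (CurveDeg.isCoh_of_isInvertible hN).1
  haveI := epi_φ s hA hgen hN
  haveI := DimOne.subsingleton_coprod (fun _ : Γ(A, ⊤) => N) 1 fun _ => h
  exact (DimOne.hmap_surjective f (NefH1.fibre_dim k hdim) (φ s N)
    (H23.LocFinCoprod.isQCoh_coprod fun _ => hNq)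
    (CurveDeg.isCoh_of_isInvertible (InvX.isInvertible_tensorMod hN hA)).1).subsingleton

include k hdim hA hgg in
theorem vanish {m : ℕ} (hm : Subsingleton (Coh.HH X (CohB1.tensorPow A m) 1)) :
    ∀ j, Subsingleton (Coh.HH X (CohB1.tensorPow A (m + j)) 1)
  | 0 => hm
  | j + 1 => step (k := k) hdim hA hgg (InvX.isInvertible_tensorPow hA (m + j)) (vanish hm j)

include k hdim hA hgg in
theorem span_eq_top {N : X.Modules} (hN : PicF.IsInvertible N) (h : Subsingleton (Coh.HH X N 1)) :
    Submodule.span (X.ringCatSheaf.obj.obj (Opposite.op ⊤))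
      (Set.range (fun p : (CohB1.tensorMod N A).val.obj (Opposite.op ⊤) × A.val.obj (Opposite.op ⊤) =>
        SecTwist.tmul (CohB1.tensorMod N A) A ⊤ p.1 p.2)) = ⊤ := by
  classical
  let f := X ↘ Spec (CommRingCat.of k)
  haveI := CurveCohLib.isNoetherian_of_proper (k := k) (X := X)
  let s : Γ(A, ⊤) → Γ(A, ⊤) := id
  have hgen : ∀ x : X, ∃ i, x ∈ H23.TrivBasic.locus (s i) := GenLocusGG.exists_mem_locus hA hgg
  let M := CohB1.tensorMod N A
  have hM : PicF.IsInvertible M := InvX.isInvertible_tensorMod hN hA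
  have hNq := (CurveDeg.isCoh_of_isInvertible hN).1
  haveI := epi_φ s hA hgen hM
  haveI := epi_lift s hA hgen hN
  haveI := DimOne.subsingleton_coprod (fun _ : Γ(A, ⊤) × Γ(A, ⊤) => N) 1 fun _ => h
  have hq : Coh.IsQCoh (∐ fun _ : Γ(A, ⊤) => M) :=
    H23.LocFinCoprod.isQCoh_coprod fun _ => (CurveDeg.isCoh_of_isInvertible hM).1
  have hq3 := (CurveDeg.isCoh_of_isInvertible (InvX.isInvertible_tensorMod hM hA)).1
  have hK : Subsingleton (Coh.HH X (kernel (φ s M)) 1) :=
    (DimOne.hmap_surjective f (NefH1.fibre_dim k hdim) (kernel.lift (φ s M) (ψ s N) (ψ_φ s hA hgen hN))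
      (H23.LocFinCoprod.isQCoh_coprod fun _ => hNq) (QCoh.isQCoh_kernel hq hq3 _)).subsingleton
  have hS : (ShortComplex.mk (kernel.ι (φ s M)) (φ s M) (kernel.condition _)).ShortExact :=
    { exact := ShortComplex.exact_of_f_is_kernel _ (kernelIsKernel _) }
  rw [eq_top_iff]
  rintro z -
  obtain ⟨c, hc⟩ := FibTriv.app_top_surjective hS hK (show Γ(CohB1.tensorMod M A, ⊤) from z)
  obtain ⟨κ, _, i, d, hd⟩ := DimOne.exists_sum (fun _ : Γ(A, ⊤) => M) 0
    ((Sheaf.H.equiv₀ (Coh.toAb (∐ fun _ : Γ(A, ⊤) => M)) isTerminalTop).symm c)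
  have hc' : c = ∑ j, (Sigma.ι (fun _ : Γ(A, ⊤) => M) (i j)).app ⊤
      (Sheaf.H.equiv₀ (Coh.toAb M) isTerminalTop (d j)) := by
    have h1 := congrArg (Sheaf.H.equiv₀ (Coh.toAb (∐ fun _ : Γ(A, ⊤) => M)) isTerminalTop) hd
    rw [AddEquiv.apply_symm_apply, map_sum] at h1
    exact h1.trans (Finset.sum_congr rfl fun j _ =>
      (Sheaf.H.equiv₀_naturality isTerminalTop ((QCoh.toAbFunctor X).map (Sigma.ι (fun _ : Γ(A, ⊤) => M) (i j)))
        (d j)).symm)
  have hz : z = ∑ j, SecTwist.tmul M A ⊤ (Sheaf.H.equiv₀ (Coh.toAb M) isTerminalTop (d j)) (s (i j)) := by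
    have h2 : (φ s M).app ⊤ c = z := hc
    rw [← h2, hc', map_sum]
    refine Finset.sum_congr rfl fun j _ => ?_
    refine (congr(($(Sigma.ι_desc (fun i => μ M (s i)) (i j))).app ⊤ _)).trans ?_
    rw [μ_app, AModX.res_self]
    rfl
  rw [hz]
  exact Submodule.sum_mem _ fun j _ => Submodule.subset_span ⟨(_, s (i j)), rfl⟩

end Groth.Agent.GGMul
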